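import Groth.Agent.Lib.FlatH4.FlatLocusScheme
import Groth.Agent.Lib.FlatH4.FlatComp
import Groth.Agent.Lib.FlatH4.FibreCritScheme
import Groth.Agent.Lib.Descend.PointLocal
import Mathlib.AlgebraicGeometry.ZariskisMainTheorem
import Mathlib.AlgebraicGeometry.Morphisms.UniversallyOpen

/-!
# Points over which a morphism is finite flat, read off from the fibre
-/

set_option autoImplicit false
set_option linter.style.haveILetI false
set_option backward.isDefEq.respectTransparency.types false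
universe u

open CategoryTheory CategoryTheory.Limits AlgebraicGeometry

noncomputable section

namespace Groth.Agent.GrpdQSecEx19

variable {X Y : Scheme.{u}}

/-- The fibre over `y` is finite and nonempty and `f` is flat along it. -/
def Good (f : X ⟶ Y) (y : Y) : Prop :=
  (f ⁻¹' {y}).Finite ∧ (f ⁻¹' {y}).Nonempty ∧ ∀ x, f x = y → (f.stalkMap x).hom.Flat

theorem quasiFiniteAt_of_finite (f : X ⟶ Y) [LocallyOfFiniteType f] {x : X} (h : (f ⁻¹' {f x}).Finite) :
    f.QuasiFiniteAt x := by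
  haveI : Finite (f.fiber (f x)) := (f.fiberHomeo (f x)).finite_iff.mpr h
  exact Scheme.Hom.quasiFiniteAt_iff_isOpen_singleton_asFiber.mpr (isOpen_discrete _)

theorem finite_of_quasiFiniteAt (f : X ⟶ Y) [LocallyOfFiniteType f] [QuasiCompact f] (y : Y)
    (h : ∀ x, f x = y → f.QuasiFiniteAt x) : (f ⁻¹' {y}).Finite := by
  haveI : DiscreteTopology (f.fiber y) := discreteTopology_iff_isOpen_singleton.2 fun a => by
    have ha : f (f.fiberι y a) = y := by
      have : f.fiberι y a ∈ Set.range (f.fiberι y) := ⟨a, rfl⟩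
      rwa [f.range_fiberι] at this
    have := Scheme.Hom.quasiFiniteAt_iff_isOpen_singleton_asFiber.mp (h _ ha)
    have key : ∀ (x : X) (y' : Y) (a' : f.fiber y'), f.fiberι y' a' = x → f x = y' →
        IsOpen ({f.asFiber x} : Set (f.fiber (f x))) → IsOpen ({a'} : Set (f.fiber y')) := by
      rintro x y' a' h1 h2 h3
      subst h2
      rwa [show a' = f.asFiber x from (f.fiberι _).isEmbedding.injective (h1.trans (f.fiberι_asFiber x).symm)]
    exact key _ y a rfl ha this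
  haveI : Finite (f.fiber y) := finite_of_compact_of_discrete
  exact Set.finite_coe_iff.1 (Finite.of_equiv _ (f.fiberHomeo y).toEquiv)

/-- The property is insensitive to flat base change. -/
theorem good_iff_of_isPullback {X' Y' : Scheme.{u}} {f : X ⟶ Y} {f' : X' ⟶ Y'} {g : X' ⟶ X} {b : Y' ⟶ Y}
    (sq : IsPullback g f' f b) [Flat b] [LocallyOfFiniteType f] [QuasiCompact f] (r : Y') :
    Good f (b r) ↔ Good f' r := by
  haveI : LocallyOfFiniteType f' := MorphismProperty.of_isPullback sq ‹_›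
  haveI : QuasiCompact f' := MorphismProperty.of_isPullback sq ‹_›
  haveI : Flat g := MorphismProperty.of_isPullback sq.flip ‹_›
  have hsq : ∀ x', f (g x') = b (f' x') := fun x' => by
    rw [← Scheme.Hom.comp_apply, sq.w, Scheme.Hom.comp_apply]
  have hsurj : ∀ x, f x = b r → ∃ x', g x' = x ∧ f' x' = r := fun x hx => by
    obtain ⟨p, hp₁, hp₂⟩ := Scheme.Pullback.exists_preimage_pullback (f := f) (g := b) x r hx
    refine ⟨sq.isoPullback.inv p, ?_, ?_⟩
    · rw [← Scheme.Hom.comp_apply, sq.isoPullback_inv_fst]; exact hp₁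
    · rw [← Scheme.Hom.comp_apply, sq.isoPullback_inv_snd]; exact hp₂
  constructor
  · rintro ⟨hfin, ⟨x, hx⟩, hflat⟩
    obtain ⟨x', -, hx'⟩ := hsurj x hx
    refine ⟨finite_of_quasiFiniteAt f' r fun x' hx' => ?_, ⟨x', hx'⟩, fun x' hx' =>
      FlatH4.flat_stalkMap_baseChange sq.flip x' (hflat _ (by rw [hsq, hx']))⟩
    let V : X.Opens := f.quasiFiniteLocus
    have hV : g x' ∈ V := by
      rw [Scheme.Hom.mem_quasiFiniteLocus]
      exact quasiFiniteAt_of_finite f (by rw [hsq, hx']; exact hfin)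
    haveI : LocallyQuasiFinite (V.ι ≫ f) := by
      rw [← Scheme.Hom.quasiFiniteLocus_eq_top_iff, Scheme.Hom.quasiFiniteLocus_comp]
      exact V.ι_preimage_self
    haveI : LocallyQuasiFinite ((g ⁻¹ᵁ V).ι ≫ f') :=
      MorphismProperty.of_isPullback ((isPullback_morphismRestrict g V).paste_vert sq) ‹_›
    exact Scheme.Hom.quasiFiniteAt_comp_iff_of_isOpenImmersion.1
      (((g ⁻¹ᵁ V).ι ≫ f').quasiFiniteAt ⟨x', hV⟩)
  · rintro ⟨hfin, ⟨x', hx'⟩, hflat⟩
    refine ⟨(hfin.image g).subset fun x hx => ?_, ⟨g x', by rw [Set.mem_preimage, hsq, show f' x' = r from hx']; rfl⟩,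
      fun x hx => ?_⟩
    · obtain ⟨a, rfl, ha⟩ := hsurj x hx
      exact ⟨a, ha, rfl⟩
    · obtain ⟨a, rfl, ha⟩ := hsurj x hx
      refine Descend.flat_stalkMap_of_comp g f a (Flat.stalkMap _ _) ?_
      rw [sq.w, Scheme.Hom.stalkMap_comp]
      exact RingHom.Flat.comp (Flat.stalkMap b (f' a)) (hflat a ha)

/-- For a proper morphism, the good points form an open set over which it is finite flat and surjective. -/
theorem exists_open_good (f : X ⟶ Y) [IsProper f] [LocallyOfFinitePresentation f] :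
    ∃ W : Y.Opens, (∀ y, y ∈ W ↔ Good f y) ∧
      IsFinite (f ∣_ W) ∧ Flat (f ∣_ W) ∧ Surjective (f ∣_ W) := by
  let O : X.Opens := ⟨(f.quasiFiniteLocus : Set X) ∩ {x | (f.stalkMap x).hom.Flat},
    f.quasiFiniteLocus.isOpen.inter (FlatH4.isOpen_flatLocus f)⟩
  let W₀ : Y.Opens := ⟨_, (f.isClosedMap _ O.isOpen.isClosed_compl).isOpen_compl⟩
  have hW₀ : ∀ x, f x ∈ W₀ → x ∈ O := fun x hx => not_not.1 fun h => hx ⟨x, h, rfl⟩
  haveI hfl : Flat (f ∣_ W₀) := Flat.of_stalkMap _ fun x => by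
    have h2 : ((f ∣_ W₀) ≫ W₀.ι) = (f ⁻¹ᵁ W₀).ι ≫ f := morphismRestrict_ι f W₀
    have h3 : (((f ⁻¹ᵁ W₀).ι ≫ f).stalkMap x).hom.Flat := by
      exact (FlatH4.flat_stalkMap_comp_left_iff _ f x).2 (hW₀ x.1 x.2).2
    rw [← h2] at h3
    exact (FlatH4.flat_stalkMap_comp_right_iff (f ∣_ W₀) W₀.ι x).1 h3
  haveI : UniversallyOpen (f ∣_ W₀) := inferInstance
  let W : Y.Opens := ⟨W₀.ι '' Set.range (f ∣_ W₀),
    W₀.ι.isOpenEmbedding.isOpenMap _ (f ∣_ W₀).isOpenMap.isOpen_range⟩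
  have hW : ∀ y, y ∈ W ↔ y ∈ W₀ ∧ (f ⁻¹' {y}).Nonempty := fun y => by
    constructor
    · rintro ⟨_, ⟨x, rfl⟩, rfl⟩
      refine ⟨((f ∣_ W₀) x).2, x.1, ?_⟩
      show f ((f ⁻¹ᵁ W₀).ι x) = W₀.ι ((f ∣_ W₀) x)
      rw [← Scheme.Hom.comp_apply, ← Scheme.Hom.comp_apply, morphismRestrict_ι]
    · rintro ⟨hy, x, hx⟩
      obtain rfl : f x = y := hx
      refine ⟨_, ⟨⟨x, hy⟩, rfl⟩, ?_⟩
      show W₀.ι ((f ∣_ W₀) ⟨x, hy⟩) = f x
      rw [← Scheme.Hom.comp_apply, morphismRestrict_ι, Scheme.Hom.comp_apply]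
      rfl
  refine ⟨W, fun y => ?_, ?_, ?_, ?_⟩
  · rw [hW]
    constructor
    · rintro ⟨hy, hne⟩
      refine ⟨finite_of_quasiFiniteAt f y fun x hx => ?_, hne, fun x hx => (hW₀ x (hx ▸ hy)).2⟩
      exact (Scheme.Hom.mem_quasiFiniteLocus).1 (hW₀ x (hx ▸ hy)).1
    · rintro ⟨hfin, hne, hflat⟩
      refine ⟨?_, hne⟩
      rintro ⟨x, hx, rfl⟩
      exact hx ⟨(Scheme.Hom.mem_quasiFiniteLocus).2 (quasiFiniteAt_of_finite f hfin), hflat x rfl⟩
  · haveI : LocallyQuasiFinite (f ∣_ W) := by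
      haveI : LocallyQuasiFinite ((f ⁻¹ᵁ W).ι ≫ f) := by
        rw [← Scheme.Hom.quasiFiniteLocus_eq_top_iff, Scheme.Hom.quasiFiniteLocus_comp, eq_top_iff]
        rintro x -
        exact (hW₀ x.1 ((hW _).1 x.2).1).1
      haveI : LocallyQuasiFinite ((f ∣_ W) ≫ W.ι) := by rw [morphismRestrict_ι]; infer_instance
      exact LocallyQuasiFinite.of_comp (f ∣_ W) W.ι
    exact .of_isProper_of_locallyQuasiFinite _
  · exact Flat.of_stalkMap _ fun x => by
      have h2 : ((f ∣_ W) ≫ W.ι) = (f ⁻¹ᵁ W).ι ≫ f := morphismRestrict_ι f W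
      have h3 : (((f ⁻¹ᵁ W).ι ≫ f).stalkMap x).hom.Flat := by
        exact (FlatH4.flat_stalkMap_comp_left_iff _ f x).2 (hW₀ x.1 ((hW _).1 x.2).1).2
      rw [← h2] at h3
      exact (FlatH4.flat_stalkMap_comp_right_iff (f ∣_ W) W.ι x).1 h3
  · refine ⟨fun y => ?_⟩
    obtain ⟨-, x, hx⟩ := (hW y.1).1 y.2
    have hxW : f x ∈ W := by rw [show f x = y.1 from hx]; exact y.2
    refine ⟨⟨x, hxW⟩, Subtype.ext ?_⟩
    show W.ι ((f ∣_ W) ⟨x, hxW⟩) = y.1
    rw [← Scheme.Hom.comp_apply, morphismRestrict_ι, Scheme.Hom.comp_apply]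
    exact hx

end Groth.Agent.GrpdQSecEx19
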