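import Groth.Agent.Lib.GrpdQSecEx19.Good
import Groth.Agent.Lib.GrpdQSec19.Along
import Mathlib.AlgebraicGeometry.Morphisms.Finite

/-!
# Translation invariance, and finiteness of arrows between two closed points
-/

set_option autoImplicit false
set_option linter.style.haveILetI false
set_option backward.isDefEq.respectTransparency.types false
universe u

open CategoryTheory CategoryTheory.Limits AlgebraicGeometry

noncomputable section

namespace Groth.Agent.GrpdQSecEx19

open Groth.Agent.GrpdB Groth.Agent.GrpdQSec19

variable {S : Scheme.{u}} (G : Grpd.GroupoidScheme S) {U' : Scheme.{u}} (u : U' ⟶ G.U)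

/-- The two base changes of `q` to the arrows are isomorphic over the arrows. -/
theorem exists_translate : ∃ e : pullback (q G u) G.t ≅ pullback (q G u) G.s,
    e.hom ≫ pullback.snd _ _ = pullback.snd _ _ := by
  let a := pullback.fst (q G u) G.t ≫ pullback.fst G.t u
  let r := pullback.snd (q G u) G.t
  have hc : a ≫ G.s = r ≫ G.t := by
    simp only [a, r, Category.assoc]
    exact pullback.condition
  let f : pullback (q G u) G.t ⟶ pullback (q G u) G.s :=
    pullback.lift (pullback.lift (cmp G a r hc) (pullback.fst (q G u) G.t ≫ pullback.snd G.t u)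
      (by rw [cmp_t]; simp only [a, Category.assoc, pullback.condition]))
      r (by rw [pullback.lift_fst_assoc, cmp_s])
  let a' := pullback.fst (q G u) G.s ≫ pullback.fst G.t u
  let r' := pullback.snd (q G u) G.s
  have hc' : a' ≫ G.s = inv' r' ≫ G.t := by
    rw [inv_t]
    simp only [a', r', Category.assoc]
    exact pullback.condition
  let g : pullback (q G u) G.s ⟶ pullback (q G u) G.t :=
    pullback.lift (pullback.lift (cmp G a' (inv' r') hc') (pullback.fst (q G u) G.s ≫ pullback.snd G.t u)
      (by rw [cmp_t]; simp only [a', Category.assoc, pullback.condition]))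
      r' (by rw [pullback.lift_fst_assoc, cmp_s, inv_s])
  have hfr : f ≫ r' = r := pullback.lift_snd _ _ _
  have hgr : g ≫ r = r' := pullback.lift_snd _ _ _
  have hfa : f ≫ a' = cmp G a r hc := by simp only [f, a', pullback.lift_fst_assoc, pullback.lift_fst]
  have hga : g ≫ a = cmp G a' (inv' r') hc' := by simp only [g, a, pullback.lift_fst_assoc, pullback.lift_fst]
  refine ⟨⟨f, g, ?_, ?_⟩, hfr⟩
  · refine pullback.hom_ext (pullback.hom_ext ?_ ?_) ?_
    · show ((f ≫ g) ≫ pullback.fst _ _) ≫ pullback.fst _ _ = (𝟙 _ ≫ pullback.fst _ _) ≫ pullback.fst _ _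
      rw [Category.id_comp, Category.assoc, Category.assoc]
      show f ≫ g ≫ a = a
      rw [hga, comp_cmp]
      rw [cmp_congr (β' := inv' r) hfa (by rw [← Category.assoc, hfr])]
      exact cancel_right a r hc
    · simp only [Category.id_comp, f, g, Category.assoc, pullback.lift_fst, pullback.lift_snd,
        pullback.lift_fst_assoc]
    · rw [Category.id_comp, Category.assoc]
      show f ≫ g ≫ r = r
      rw [hgr, hfr]
  · refine pullback.hom_ext (pullback.hom_ext ?_ ?_) ?_
    · show ((g ≫ f) ≫ pullback.fst _ _) ≫ pullback.fst _ _ = (𝟙 _ ≫ pullback.fst _ _) ≫ pullback.fst _ _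
      rw [Category.id_comp, Category.assoc, Category.assoc]
      show g ≫ f ≫ a' = a'
      rw [hfa, comp_cmp, cmp_congr hga hgr]
      exact cancel_right' a' r' (by simp only [a', r', Category.assoc]; exact pullback.condition)
    · simp only [Category.id_comp, f, g, Category.assoc, pullback.lift_fst, pullback.lift_snd,
        pullback.lift_fst_assoc]
    · rw [Category.id_comp, Category.assoc]
      show g ≫ f ≫ r' = r'
      rw [hfr, hgr]

/-- Good points are invariant. -/
theorem good_translate [Flat G.s] [Flat G.t] [LocallyOfFiniteType (q G u)] [QuasiCompact (q G u)] (r : G.R) :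
    Good (q G u) (G.t r) ↔ Good (q G u) (G.s r) := by
  obtain ⟨e, he⟩ := exists_translate G u
  rw [good_iff_of_isPullback (IsPullback.of_hasPullback (q G u) G.t) r,
    good_iff_of_isPullback (IsPullback.of_iso (IsPullback.of_hasPullback (q G u) G.s)
      (fst' := e.hom ≫ pullback.fst (q G u) G.s) (snd' := pullback.snd (q G u) G.t) (f' := q G u) (g' := G.s)
      e.symm (Iso.refl _) (Iso.refl _) (Iso.refl _)
      (by simp) (by simp [← he]) (by simp) (by simp)) r]

theorem quasiFinite_fromSpecResidueField {T : Scheme.{u}} (p : G.U ⟶ T) [LocallyOfFiniteType p] (z : G.U)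
    (hzc : ∀ z' : G.U, z' ∈ closure ({z} : Set G.U) → p z' = p z → z' = z) :
    LocallyQuasiFinite (G.U.fromSpecResidueField z ≫ p) ∧ QuasiCompact (G.U.fromSpecResidueField z ≫ p) := by
  have hcl : IsClosed ({p.asFiber z} : Set (p.fiber (p z))) := by
    rw [← closure_eq_iff_isClosed]
    refine subset_antisymm (fun b hb => (p.fiberι (p z)).isEmbedding.injective ?_) subset_closure
    rw [p.fiberι_asFiber]
    refine hzc _ ?_ ?_
    · have := specializes_iff_mem_closure.1 ((specializes_iff_mem_closure.2 hb).map (p.fiberι (p z)).continuous)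
      rwa [p.fiberι_asFiber] at this
    · have : p.fiberι (p z) b ∈ Set.range (p.fiberι (p z)) := ⟨b, rfl⟩
      rwa [p.range_fiberι] at this
  let c : Spec (G.U.residueField z) ⟶ p.fiber (p z) := p.asFiberHom z
  have hc : Set.range c = {p.asFiber z} := p.range_asFiberHom z
  haveI : IsPreimmersion c := inferInstance
  haveI : IsClosedImmersion c := .of_isPreimmersion c (hc ▸ hcl)
  have e : Spec.map (p.residueFieldMap z) = c ≫ p.fiberToSpecResidueField _ :=
    (p.asFiberHom_fiberToSpecResidueField z).symm
  haveI : LocallyOfFiniteType (p.fiberToSpecResidueField (p z)) := MorphismProperty.pullback_snd _ _ inferInstance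
  haveI : LocallyOfFiniteType (Spec.map (p.residueFieldMap z)) := by rw [e]; infer_instance
  haveI : IsFinite (Spec.map (p.residueFieldMap z)) := isFinite_iff_locallyOfFiniteType_of_jacobsonSpace.2 ‹_›
  have e2 : G.U.fromSpecResidueField z ≫ p = Spec.map (p.residueFieldMap z) ≫ T.fromSpecResidueField (p z) :=
    (p.SpecMap_residueFieldMap_fromSpecResidueField z).symm
  rw [e2]
  exact ⟨inferInstance, inferInstance⟩

/-- Finitely many arrows from a point closed in its fibre to finitely many points. -/
theorem finite_arrows [QuasiCompact G.s] [LocallyOfFiniteType G.s] [LocallyOfFiniteType G.pU]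
    [LocallyQuasiFinite G.j] (z : G.U)
    (hzc : ∀ z' : G.U, z' ∈ closure ({z} : Set G.U) → G.pU z' = G.pU z → z' = z) (E : Set G.U) (hE : E.Finite) :
    {r : G.R | G.s r = z ∧ G.t r ∈ E}.Finite := by
  obtain ⟨hqf, hqc⟩ := quasiFinite_fromSpecResidueField G G.pU z hzc
  let h := G.U.fromSpecResidueField z ≫ G.pU
  let m : pullback G.pU h ⟶ pullback G.pU G.pU :=
    pullback.map G.pU h G.pU G.pU (𝟙 _) (G.U.fromSpecResidueField z) (𝟙 _) (by simp) (by simp [h])
  let c : G.s.fiber z ⟶ pullback G.pU h := pullback.lift (G.s.fiberι z ≫ G.t) (G.s.fiberToSpecResidueField z) (by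
    rw [Category.assoc, G.t_over, ← G.s_over, ← Category.assoc]
    show (pullback.fst _ _ ≫ G.s) ≫ G.pU = _
    rw [pullback.condition, Category.assoc]
    rfl)
  have hcm : c ≫ m = G.s.fiberι z ≫ G.j := by
    refine pullback.hom_ext ?_ ?_
    · simp only [c, m, pullback.map, Category.assoc, pullback.lift_fst, j_fst, Category.comp_id]
    · simp only [c, m, pullback.map, Category.assoc, pullback.lift_snd, j_snd]
      rw [pullback.lift_snd_assoc]
      exact pullback.condition.symm
  haveI : LocallyQuasiFinite (c ≫ m) := by rw [hcm]; infer_instance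
  haveI : LocallyQuasiFinite c := LocallyQuasiFinite.of_comp c m
  haveI : LocallyOfFiniteType (G.s.fiberToSpecResidueField z) := MorphismProperty.pullback_snd _ _ inferInstance
  haveI : AlgebraicGeometry.IsNoetherian (G.s.fiber z) :=
    { toCompactSpace := inferInstance
      toIsLocallyNoetherian := LocallyOfFiniteType.isLocallyNoetherian (G.s.fiberToSpecResidueField z) }
  haveI : QuasiCompact c := ⟨fun V _ _ => TopologicalSpace.NoetherianSpace.isCompact _⟩
  have hQ : (pullback.fst G.pU h ⁻¹' E).Finite := by
    haveI : LocallyQuasiFinite (pullback.fst G.pU h) := MorphismProperty.pullback_fst _ _ hqf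
    haveI : QuasiCompact (pullback.fst G.pU h) := MorphismProperty.pullback_fst _ _ hqc
    exact (pullback.fst G.pU h).finite_preimage hE
  refine ((c.finite_preimage hQ).image (G.s.fiberι z)).subset ?_
  rintro r ⟨hr, hrE⟩
  obtain ⟨a, rfl⟩ : r ∈ Set.range (G.s.fiberι z) := by rw [G.s.range_fiberι]; exact hr
  refine ⟨a, ?_, rfl⟩
  show pullback.fst G.pU h (c a) ∈ E
  rw [← Scheme.Hom.comp_apply, pullback.lift_fst, Scheme.Hom.comp_apply]
  exact hrE

end Groth.Agent.GrpdQSecEx19
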